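import Mathlib
import Cfsg.Agent.Inv.ClsIdx

/-! Simple groups of small conjugate type rank (Ito): definitions. -/

set_option autoImplicit false

namespace Cfsg.Agent.Ito4

open Cfsg Cfsg.Agent.FT Cfsg.Agent.Inv.ClsIdx Subgroup

/-- The set of indices of centralizers of non-identity elements. -/
def IX (G : Type*) [Group G] : Set ℕ := {m : ℕ | ∃ x : G, x ≠ 1 ∧ m = (𝒞[x]).index}

variable {G : Type*} [Group G]

/-- Hypothesis of Theorem A: a centralizer `C(x)` properly contained in the centralizer of a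
`2`-element `u ≠ 1` and containing `u` has order `δ`. -/
def HA (G : Type*) [Group G] (δ : ℕ) : Prop :=
  ∀ u x : G, u ≠ 1 → (∃ k, u ^ 2 ^ k = 1) → u ∈ 𝒞[x] → 𝒞[x] ≤ 𝒞[u] →
    𝒞[x] = 𝒞[u] ∨ Nat.card 𝒞[x] = δ

/-- Two-headed groups: every class size `> 1` is a multiple of the class size of `a` or of `b`,
and these two sizes do not divide each other. -/
structure TH (a b : G) : Prop where
  a1 : a ≠ 1
  b1 : b ≠ 1
  dvd : ∀ x : G, x ≠ 1 → (𝒞[a]).index ∣ (𝒞[x]).index ∨ (𝒞[b]).index ∣ (𝒞[x]).index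
  ab : ¬ (𝒞[a]).index ∣ (𝒞[b]).index
  ba : ¬ (𝒞[b]).index ∣ (𝒞[a]).index

theorem TH.symm {a b : G} (h : TH a b) : TH b a :=
  ⟨h.b1, h.a1, fun x hx => (h.dvd x hx).symm, h.ba, h.ab⟩

theorem index_map {G' : Type*} [Group G'] (e : G ≃* G') (x : G) :
    (𝒞[e x]).index = (𝒞[x]).index := by
  rw [← index_comap_of_surjective 𝒞[e x] (f := e.toMonoidHom) e.surjective]
  congr 1
  ext y
  rw [mem_comap, mem_cent1_iff, mem_cent1_iff]
  exact ⟨fun h => e.injective (by simpa using h), fun h => by simpa using congrArg e h⟩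

theorem IX_congr {G' : Type*} [Group G'] (e : G ≃* G') : IX G = IX G' :=
  Set.ext fun _ =>
    ⟨fun ⟨x, hx, h⟩ => ⟨e x, by simpa using hx, h.trans (index_map e x).symm⟩,
      fun ⟨x, hx, h⟩ => ⟨e.symm x, by simpa using hx, h.trans (index_map e.symm x).symm⟩⟩

theorem IX_finite [Finite G] : (IX G).Finite :=
  (Set.finite_range fun x : G => (𝒞[x]).index).subset fun _ ⟨x, _, h⟩ => ⟨x, h.symm⟩

theorem mem_IX {x : G} (hx : x ≠ 1) : (𝒞[x]).index ∈ IX G := ⟨x, hx, rfl⟩

theorem IX_eq [IsSimpleGroup G] (hG : ¬ IsMulCommutative G) :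
    {m : ℕ | ∃ x : G, x ∉ center G ∧ m = (𝒞[x]).index} = IX G := by
  rw [(inferInstance : (center G).Normal).eq_bot_or_eq_top.resolve_right
    fun e => hG (center_eq_top_iff.1 e)]
  simp only [mem_bot, IX]

theorem index_eq_iff_card_eq [Finite G] {H K : Subgroup G} :
    H.index = K.index ↔ Nat.card H = Nat.card K := by
  have h1 := H.card_mul_index
  have h2 := K.card_mul_index
  constructor
  · intro e
    rw [e, ← h2] at h1
    exact Nat.eq_of_mul_eq_mul_right (Nat.pos_of_ne_zero FiniteIndex.index_ne_zero) h1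
  · intro e
    rw [e, ← h2] at h1
    exact Nat.eq_of_mul_eq_mul_left Nat.card_pos h1

theorem index_dvd_iff_card_dvd [Finite G] {H K : Subgroup G} :
    H.index ∣ K.index ↔ Nat.card K ∣ Nat.card H := by
  have h1 := H.card_mul_index
  have h2 := K.card_mul_index
  constructor
  · rintro ⟨c, e⟩
    refine ⟨c, Nat.eq_of_mul_eq_mul_right (Nat.pos_of_ne_zero (FiniteIndex.index_ne_zero (H := H))) ?_⟩
    rw [h1, ← h2, e]; ring
  · rintro ⟨c, e⟩
    refine ⟨c, Nat.eq_of_mul_eq_mul_left (Nat.card_pos (α := K)) ?_⟩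
    rw [h2, ← h1, e]; ring

/-- Five (or more) elements with pairwise different centralizer orders. -/
theorem le_ncard_IX [Finite G] {n : ℕ} (f : Fin n → G) (h1 : ∀ i, f i ≠ 1)
    (h : ∀ i j, Nat.card 𝒞[f i] = Nat.card 𝒞[f j] → i = j) : n ≤ (IX G).ncard := by
  have h2 := Set.ncard_le_ncard (s := Set.range fun i => (𝒞[f i]).index) (t := IX G)
    (fun _ ⟨i, hi⟩ => hi ▸ mem_IX (h1 i)) (IX_finite (G := G))
  rwa [Set.ncard_range_of_injective (fun i j e => h i j (index_eq_iff_card_eq.1 e)),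
    Nat.card_eq_fintype_card, Fintype.card_fin] at h2

end Cfsg.Agent.Ito4
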