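import Mathlib
import Cfsg.Agent.Ito4.Defs
import Cfsg.Agent.Part.ItoTwo
import Cfsg.Agent.PLocal.PrimeCoreAmb
import Cfsg.Agent.Grp.Subnormal

/-! Groups in which the non-central elements of odd order have one class size. -/

set_option autoImplicit false

namespace Cfsg.Agent.Ito4

open Cfsg Cfsg.Agent.FT Cfsg.Agent.Inv.ClsIdx Subgroup

variable {H : Type*} [Group H]

theorem eq_one_of_conj {u x c : H} {k : ℕ} (hu : u ^ 2 ^ k = 1) (hc : (orderOf c).Coprime 2)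
    (huc : u * c = c * u) (e : u * x * u⁻¹ = c * x) : c = 1 := by
  have key : ∀ n : ℕ, u ^ n * x * (u ^ n)⁻¹ = c ^ n * x := by
    intro n
    induction n with
    | zero => simp
    | succ n ih =>
      calc u ^ (n + 1) * x * (u ^ (n + 1))⁻¹ = u * (u ^ n * x * (u ^ n)⁻¹) * u⁻¹ := by group
        _ = u * c ^ n * u⁻¹ * (u * x * u⁻¹) := by rw [ih]; group
        _ = c ^ n * (c * x) := by rw [e, (Commute.pow_right huc n).eq]; group
        _ = _ := by group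
  have h1 := key (2 ^ k)
  rw [hu] at h1
  have h2 : c ^ 2 ^ k = 1 := by simpa using h1.symm
  exact orderOf_eq_one_iff.1 ((hc.pow_right k).eq_one_of_dvd (orderOf_dvd_of_pow_eq_one h2))

variable [Finite H]

theorem odd_eq {A X C : Subgroup H} {e : ℕ} (hC : Nat.card C = 2 ^ e * Nat.card A)
    (hX : (Nat.card X).Coprime 2) (hAX : A ≤ X) (hXC : X ≤ C) : X = A :=
  (eq_of_le_of_card_ge hAX (Nat.le_of_dvd Nat.card_pos
    ((hX.pow_right e).dvd_of_dvd_mul_left (hC ▸ card_dvd_of_le hXC)))).symm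

theorem mem_of_odd {A C : Subgroup H} {e : ℕ} (hC : Nat.card C = 2 ^ e * Nat.card A)
    (hA : (Nat.card A).Coprime 2) (hAC : A ≤ C) {y : H} (hy : (orderOf y).Coprime 2) (hyC : y ∈ C)
    (hn : y ∈ 𝒩(A)) : y ∈ A := by
  have h1 : (Nat.card ↥(zpowers y ⊔ A)).Coprime 2 :=
    Nat.Coprime.coprime_dvd_left (Grp.card_sup_dvd_of_le_normalizer (zpowers_le_of_mem hn))
      (Nat.Coprime.mul_left (by rwa [Nat.card_zpowers]) hA)
  rw [← odd_eq hC h1 le_sup_right (sup_le (zpowers_le_of_mem hyC) hAC)]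
  exact mem_sup_left (mem_zpowers y)

theorem struct {m : ℕ}
    (h : ∀ u : H, (orderOf u).Coprime 2 → u ∉ center H → (𝒞[u]).index = m) :
    Group.IsSolvable H ∧
      ((∃ K : Subgroup H, IsMulCommutative K ∧ ¬ 2 ∣ Nat.card K ∧ ∃ k : ℕ, K.index = 2 ^ k) ∨
        ∃ q : ℕ, q.Prime ∧ q ≠ 2 ∧
          ∀ y : H, (orderOf y).Coprime 2 → (orderOf y).Coprime q → y ∈ center H) := by
  rcases Part.Ito.pow_or_of_const Nat.prime_two h with h1 | ⟨q, hq⟩
  · exact ⟨Part.Ito.solvable_of_reg_pow Nat.prime_two h1, Or.inl (S4034.main Nat.prime_two H h1)⟩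
  obtain ⟨q, hq1, hq2, hq⟩ : ∃ q : ℕ, q.Prime ∧ q ≠ 2 ∧ ∀ r : ℕ, r.Prime → r ≠ 2 → r ≠ q →
      ∀ y : H, (∃ k, y ^ r ^ k = 1) → y ∈ center H := by
    by_cases h1 : q.Prime ∧ q ≠ 2
    · exact ⟨q, h1.1, h1.2, hq⟩
    · exact ⟨3, Nat.prime_three, by norm_num, fun r hr h2 _ => hq r hr h2 fun e => h1 (e ▸ ⟨hr, h2⟩)⟩
  refine ⟨?_, Or.inr ⟨q, hq1, hq2, fun y hy2 hyq => ?_⟩⟩
  · haveI := Fact.mk hq1
    obtain ⟨P⟩ : Nonempty (Sylow 2 H) := inferInstance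
    obtain ⟨Q⟩ : Nonempty (Sylow q H) := inferInstance
    obtain ⟨A, hA, h1, h2, -, h3⟩ := Part.Ito.exists_pq_prod hq2 hq P Q
    obtain ⟨i, hi⟩ := IsPGroup.iff_card.1 P.isPGroup'
    obtain ⟨j, hj⟩ := IsPGroup.iff_card.1 Q.isPGroup'
    refine (Group.isSolvable_iff_subgroup_quotient ((P : Subgroup H) ⊔ Q)).2
      ⟨Char.isSolvable_of_card_dvd_pow_mul_pow (a := i) (b := j) Nat.prime_two hq1 _
        (by rw [h1, hi, hj]), Group.isSolvable_of_comm fun a b => ?_⟩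
    obtain ⟨a, rfl⟩ := QuotientGroup.mk_surjective a
    obtain ⟨b, rfl⟩ := QuotientGroup.mk_surjective b
    obtain ⟨n, hn, z, hz, rfl⟩ := mem_sup_of_normal_left.1 (h3.ge (mem_top a))
    rw [QuotientGroup.mk_mul, (QuotientGroup.eq_one_iff n).2 hn, one_mul, ← QuotientGroup.mk_mul,
      ← QuotientGroup.mk_mul, mem_center_iff.1 (hA hz)]
  · by_contra hz
    obtain ⟨r, hr, x, hxy, hx, hk⟩ := Part.Ito.exists_primary hz
    exact hx (hq r hr (Part.Ito.ne_of_pe_of_cop hx hk (Part.Ito.cop_of_mem_zpowers hy2 hxy))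
      (Part.Ito.ne_of_pe_of_cop hx hk (Part.Ito.cop_of_mem_zpowers hyq hxy)) x hk)

/-- Lemma L. -/
theorem lemL {e : ℕ} {A : Subgroup H} {v : H} {k : ℕ} (hv : v ^ 2 ^ k = 1)
    (hA : ∀ x, x ∈ A ↔ x ∈ 𝒞[v] ∧ (orderOf x).Coprime 2) (hAc : ∀ a ∈ A, 𝒞[v] ≤ 𝒞[a])
    (hδ : ∀ y : H, (orderOf y).Coprime 2 → y ∉ center H → Nat.card 𝒞[y] = 2 ^ e * Nat.card A)
    {y : H} (hy : (orderOf y).Coprime 2) : y ∈ A := by
  have hAo : (Nat.card A).Coprime 2 :=
    Transfer.coprime_card_of_forall_orderOf fun x hx => ((hA x).1 hx).2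
  have hAv : A ≤ 𝒞[v] := fun x hx => ((hA x).1 hx).1
  have hAA : ∀ a ∈ A, A ≤ 𝒞[a] := fun a ha => hAv.trans (hAc a ha)
  have hZ : ∀ x : H, (orderOf x).Coprime 2 → x ∈ center H → x ∈ A := fun x hx hz =>
    (hA x).2 ⟨mem_cent1_iff.2 (mem_center_iff.1 hz v).symm, hx⟩
  by_cases h0 : A ≤ center H
  · by_contra hyA
    refine hyA (mem_of_odd (hδ y hy fun hz => hyA (hZ y hy hz)) hAo
      (fun a ha => mem_cent1_iff.2 (mem_center_iff.1 (h0 ha) y).symm) hy (mem_cent1_iff.2 rfl) ?_)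
    exact centralizer_le_normalizer _ fun a ha => (mem_center_iff.1 (h0 ha) y).symm
  obtain ⟨a, ha, haz⟩ := SetLike.not_le_iff_exists.1 h0
  have hao := ((hA a).1 ha).2
  have hCa := hδ a hao haz
  obtain ⟨hs, hc⟩ := struct (m := (𝒞[a]).index) fun u hu hz =>
    index_eq_iff_card_eq.2 ((hδ u hu hz).trans hCa.symm)
  set O := pPrimeCore 2 H with hO
  have hOo : (Nat.card O).Coprime 2 := Grp.pPrimeCore_coprime 2 H
  have hAO : A ≤ O := by
    have h1 := PLocal.PCA.le_pPrimeCore_of_normal_in_centralizer (p := 2) (L := ⊤)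
      (P := zpowers v) (X := A) (PLocal.PCA.isPConstrained_of_isSolvable inferInstance) le_top
      (PLocal.Amb.isPGroup_zpowers ⟨k, hv⟩) hAo
      (by rw [PLocal.Amb.centralizer_zpowers]; exact le_inf le_top hAv)
      (by
        rw [PLocal.Amb.centralizer_zpowers]
        exact fun g hg => centralizer_le_normalizer _ fun x hx =>
          (mem_cent1_iff.1 (hAc x hx hg.2)).symm)
    refine h1.trans (Grp.le_pPrimeCore ?_ (Grp.map_pPrimeCore_coprime 2 _))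
    exact (inferInstance : (pPrimeCore 2 (⊤ : Subgroup H)).Normal).map _
      (fun x => ⟨⟨x, trivial⟩, rfl⟩)
  rcases hc with ⟨K, hK1, hK2, j, hj⟩ | ⟨q, hq, hq2, hqz⟩
  · have hOK : O ≤ K := Grp.le_of_coprime_card_index (hj ▸ hOo.pow_right j)
    have hKA : K = A := odd_eq hCa ((Nat.Prime.coprime_iff_not_dvd Nat.prime_two).2 hK2).symm
      (hAO.trans hOK) fun x hx => mem_cent1_iff.2
        (congrArg Subtype.val (hK1.is_comm.comm ⟨x, hx⟩ ⟨a, hOK (hAO ha)⟩))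
    have hOA : O = A := le_antisymm (hKA ▸ hOK) hAO
    rw [← hOA]
    refine Transfer.mem_of_coprime_of_isPGroup_quotient
      (Transfer.isPGroup_quotient_iff_index.2 ⟨j, ?_⟩) hy
    rw [hOA, ← hKA, hj]
  haveI := Fact.mk hq
  have hpow : ∀ x : H, (orderOf x).Coprime 2 → ∃ j, x ^ q ^ j ∈ center H := fun x hx => by
    obtain ⟨j, hj⟩ := Transfer.exists_pow_coprime_orderOf (p := q) x
    exact ⟨j, hqz _ (Nat.Coprime.coprime_dvd_left (orderOf_pow_dvd _) hx) hj⟩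
  have hOA : O = A := by
    by_contra hne
    have hnil : Group.IsNilpotent O := by
      have h1 : IsPGroup q (O ⧸ center O) := fun x => by
        obtain ⟨x, rfl⟩ := QuotientGroup.mk_surjective x
        obtain ⟨j, hj⟩ := hpow x (Transfer.coprime_orderOf_of_mem hOo x.2)
        refine ⟨j, ?_⟩
        rw [← QuotientGroup.mk_pow, QuotientGroup.eq_one_iff]
        exact mem_center_iff.2 fun g => Subtype.ext (mem_center_iff.1 hj g)
      exact Group.of_quotient_center_nilpotent h1.isNilpotent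
    obtain ⟨g, ⟨hgO, hgN⟩, hgA⟩ := SetLike.exists_of_lt
      (Grp.lt_inf_normalizer_of_isNilpotent hnil (lt_of_le_of_ne hAO (Ne.symm hne)))
    have h1 : g⁻¹ * a * g ∈ A := by
      have := (mem_normalizer_iff.1 (inv_mem hgN) a).1 ha
      simpa using this
    have hcO : v * g * v⁻¹ * g⁻¹ ∈ O :=
      mul_mem ((inferInstance : O.Normal).conj_mem g hgO v) (inv_mem hgO)
    have h2 := mem_cent1_iff.1 (hAv h1)
    have h3 := mem_cent1_iff.1 (hAv ha)
    have hca : v * g * v⁻¹ * g⁻¹ ∈ 𝒞[a] := mem_cent1_iff.2 (by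
      calc v * g * v⁻¹ * g⁻¹ * a = v * g * v⁻¹ * (g⁻¹ * a * g * v) * v⁻¹ * g⁻¹ := by group
        _ = (v * a) * g * v⁻¹ * g⁻¹ := by rw [h2]; group
        _ = _ := by rw [← h3]; group)
    have hcA : v * g * v⁻¹ * g⁻¹ ∈ A := by
      rw [← odd_eq (X := O ⊓ 𝒞[a]) hCa (Nat.Coprime.coprime_dvd_left (card_dvd_of_le inf_le_left) hOo)
        (le_inf hAO (hAA a ha)) inf_le_right]
      exact ⟨hcO, hca⟩
    have h4 := eq_one_of_conj (x := g) hv ((hA _).1 hcA).2 (mem_cent1_iff.1 (hAv hcA)).symm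
      (by group)
    refine hgA ((hA g).2 ⟨mem_cent1_iff.2 ?_, Transfer.coprime_orderOf_of_mem hOo hgO⟩)
    calc g * v = (v * g * v⁻¹ * g⁻¹) * g * v := by rw [h4, one_mul]
      _ = _ := by group
  have hAn : A.Normal := hOA ▸ inferInstance
  have hAN : ∀ g : H, g ∈ 𝒩(A) := fun g => by
    rw [normalizer_eq_top]; trivial
  -- reduce to `q`-elements
  obtain ⟨y₁, y₂, hy₁, hy₂, ⟨i, hi⟩, hy₂q, rfl⟩ := Transfer.exists_pPart_mul (p := q) y
  refine mul_mem ?_ (hZ _ (Part.Ito.cop_of_mem_zpowers hy hy₂)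
    (hqz _ (Part.Ito.cop_of_mem_zpowers hy hy₂) hy₂q))
  replace hy := Part.Ito.cop_of_mem_zpowers hy hy₁
  clear hy₁ hy₂ hy₂q y₂
  rename' y₁ => y
  by_contra hyA
  have hCy := hδ y hy fun hz => hyA (hZ y hy hz)
  have key : ∀ u ∈ 𝒞[y], ∀ l, u ^ 2 ^ l = 1 → ∀ x ∈ A, u * x = x * u := by
    intro u hu l hl
    have huy := mem_cent1_iff.1 hu
    have hcj : ∀ g : H, ∀ x ∈ A, g * x * g⁻¹ ∈ A := fun g x hx => hAn.conj_mem x hx g
    let B : Subgroup H :=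
      { carrier := {b | ∃ x ∈ A, b = u * x * u⁻¹ * x⁻¹}
        one_mem' := ⟨1, one_mem _, by group⟩
        mul_mem' := by
          rintro _ _ ⟨x, hx, rfl⟩ ⟨z, hz, rfl⟩
          refine ⟨x * z, mul_mem hx hz, ?_⟩
          have h1 := mem_cent1_iff.1 (hAA _ (mul_mem (hcj u z hz) (inv_mem hz)) (inv_mem hx))
          calc u * x * u⁻¹ * x⁻¹ * (u * z * u⁻¹ * z⁻¹)
              = u * x * u⁻¹ * (x⁻¹ * (u * z * u⁻¹ * z⁻¹)) := by group
            _ = _ := by rw [h1]; group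
        inv_mem' := by
          rintro _ ⟨x, hx, rfl⟩
          refine ⟨x⁻¹, inv_mem hx, ?_⟩
          have h1 := mem_cent1_iff.1 (hAA _ (hcj u _ (inv_mem hx)) hx)
          calc (u * x * u⁻¹ * x⁻¹)⁻¹ = x * (u * x⁻¹ * u⁻¹) := by group
            _ = _ := by rw [h1]; group }
    have hBA : B ≤ A := by
      rintro _ ⟨x, hx, rfl⟩
      exact mul_mem (hcj u x hx) (inv_mem hx)
    have hBZ : ∀ b ∈ B, b ∈ center H → b = 1 := fun b hb hz => by
      have h1 := ((hA b).1 (hBA hb)).2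
      obtain ⟨x, hx, rfl⟩ := hb
      exact eq_one_of_conj (x := x) hl h1 (mem_center_iff.1 hz u) (by group)
    have hBq : IsPGroup q B := fun b => by
      obtain ⟨j, hj⟩ := hpow b ((hA b).1 (hBA b.2)).2
      exact ⟨j, Subtype.ext (hBZ _ (pow_mem b.2 _) hj)⟩
    have hyB : y ∈ 𝒩(B) := by
      refine mem_normalizer_fintype ?_
      rintro _ ⟨x, hx, rfl⟩
      refine ⟨y * x * y⁻¹, hcj y x hx, ?_⟩
      calc y * (u * x * u⁻¹ * x⁻¹) * y⁻¹ = (y * u) * x * (y * u)⁻¹ * (y * x⁻¹ * y⁻¹) := by group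
        _ = _ := by rw [← huy]; group
    have hB : B = ⊥ := by
      by_contra hne
      obtain ⟨⟨b, hb, hby⟩, hb1⟩ := ne_bot_iff_exists_ne_one.1 (PLocal.Amb.inf_centralizer_ne_bot
        (PLocal.Amb.isPGroup_zpowers ⟨i, hi⟩) hBq (zpowers_le_of_mem hyB) hne)
      refine hyA (mem_of_odd (hδ b ((hA b).1 (hBA hb)).2 fun hz => hb1 (Subtype.ext (hBZ b hb hz)))
        hAo (hAA b (hBA hb)) hy (mem_cent1_iff.2 (hby y (mem_zpowers y))) (hAN y))
    intro x hx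
    have h1 : u * x * u⁻¹ * x⁻¹ = 1 := mem_bot.1 (hB ▸ (⟨x, hx, rfl⟩ : _ ∈ B))
    calc u * x = (u * x * u⁻¹ * x⁻¹) * (x * u) := by group
      _ = _ := by rw [h1, one_mul]
  obtain ⟨S, hS⟩ := Sylow.exists_subgroup_card_pow_prime (G := 𝒞[y]) 2 (n := e) ⟨_, hCy⟩
  set S' := S.map (𝒞[y]).subtype
  have hS' : Nat.card S' = 2 ^ e := by rwa [card_subtype]
  have hSy : S' ≤ 𝒞[y] := map_subtype_le _
  have hS2 : ∀ s ∈ S', s ^ 2 ^ e = 1 := fun s hs => by
    rw [← hS']; exact congrArg Subtype.val (pow_card_eq_one' (x := (⟨s, hs⟩ : S')))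
  have hSA : S' ⊔ A = 𝒞[a] := by
    refine eq_of_le_of_card_ge (sup_le (fun s hs => mem_cent1_iff.2
      (key s (hSy hs) e (hS2 s hs) a ha)) (hAA a ha)) ?_
    rw [hCa, Grp.card_sup_of_disjoint _ _ (inf_eq_bot_of_coprime (hS' ▸ (hAo.pow_right e).symm)), hS']
  obtain ⟨s, hs, x, hx, hsx⟩ := mem_sup_of_normal_right.1 (hSA.ge (mem_cent_comm (hAv ha)))
  have h1 : x ^ 2 ^ (k + e) = 1 := by
    have h2 : v ^ 2 ^ (k + e) = 1 := by rw [pow_add, pow_mul, hv, one_pow]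
    have h3 : s ^ 2 ^ (k + e) = 1 := by rw [add_comm, pow_add, pow_mul, hS2 s hs, one_pow]
    rwa [← hsx, Commute.mul_pow (key s (hSy hs) e (hS2 s hs) x hx), h3, one_mul] at h2
  have h2 : x = 1 := orderOf_eq_one_iff.1
    ((((hA x).1 hx).2.pow_right _).eq_one_of_dvd (orderOf_dvd_of_pow_eq_one h1))
  rw [h2, mul_one] at hsx
  exact hyA ((hA y).2 ⟨mem_cent_comm (hsx ▸ hSy hs), hy⟩)

end Cfsg.Agent.Ito4
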