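import Mathlib
import Cfsg.Agent.Ito4.Defs

/-! Two-headed simple groups. -/

set_option autoImplicit false
set_option linter.unusedSectionVars false

namespace Cfsg.Agent.Ito4

open Cfsg Cfsg.Agent.FT Cfsg.Agent.Inv.ClsIdx Cfsg.Agent.Inv.CCInv Subgroup

variable {G : Type*} [Group G] [Finite G] [IsSimpleGroup G] {a b : G}

namespace Two

omit [IsSimpleGroup G] in
theorem exists_rel {K : Subgroup G} {p : ℕ} (hp : p.Prime) (hd : p ∣ Nat.card K) :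
    ∃ z ∈ K, orderOf z = p ∧ ¬ p ∣ (𝒞[z]).relIndex K := by
  obtain ⟨z, h1, h2⟩ := exists_not_dvd_index (G := K) hp hd
  refine ⟨z, z.2, by rw [Subgroup.orderOf_coe, h1], fun h => h2 ?_⟩
  rwa [show (𝒞[z] : Subgroup K) = (𝒞[(z : G)]).subgroupOf K from Subgroup.ext fun g => by
    rw [mem_subgroupOf, mem_cent1_iff, mem_cent1_iff, Subtype.ext_iff]; rfl]

omit [IsSimpleGroup G] in
theorem mul_dvd_card {E H : Subgroup G} {z : G} (hz : (orderOf z).Prime) (hzE : z ∉ E)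
    (hc : E ≤ 𝒞[z]) (hE : E ≤ H) (hzH : z ∈ H) : Nat.card E * orderOf z ∣ Nat.card H := by
  have hcomm : ∀ (u : E) (v : zpowers z), Commute (E.subtype u) ((zpowers z).subtype v) :=
    fun u ⟨_, i, rfl⟩ => Commute.zpow_right (mem_cent1_iff.1 (hc u.2)) i
  have h1 : Disjoint E (zpowers z) := by
    have : Fact (Nat.card (zpowers z)).Prime := ⟨by rwa [Nat.card_zpowers]⟩
    exact subgroupOf_eq_bot.1 ((E.subgroupOf (zpowers z)).eq_bot_or_eq_top_of_prime_card.resolve_right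
      fun h => hzE (subgroupOf_eq_top.1 h (mem_zpowers z)))
  have h2 : Function.Injective (E.subtype.noncommCoprod (zpowers z).subtype hcomm) :=
    (MonoidHom.noncommCoprod_injective _ _ _).2 ⟨E.subtype_injective, (zpowers z).subtype_injective, by
      rwa [range_subtype, range_subtype]⟩
  rw [← Nat.card_zpowers, ← Nat.card_prod, Nat.card_congr (MonoidHom.ofInjective h2).toEquiv]
  refine card_dvd_of_le ?_
  rw [MonoidHom.noncommCoprod_range, range_subtype, range_subtype]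
  exact sup_le hE (zpowers_le.2 hzH)

omit [IsSimpleGroup G] in
theorem exists_big {D : Subgroup G} {z : G} (hz : (orderOf z).Prime) (hzD : z ∉ D)
    (hc : D ≤ 𝒞[z]) (hd : orderOf z ∣ Nat.card D) :
    ∃ y ∈ D, orderOf y = orderOf z ∧ ∀ (H : Subgroup G) (m : ℕ), 𝒞[y] ⊓ D ≤ H → z ∈ H →
      ¬ orderOf z ∣ m → ¬ Nat.card H ∣ Nat.card D * m := by
  obtain ⟨y, hy, h1, h2⟩ := exists_rel hz hd
  refine ⟨y, hy, h1, fun H m h3 h4 h5 h6 => ?_⟩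
  have h7 := (mul_dvd_card (E := 𝒞[y] ⊓ D) hz (fun h => hzD h.2) (inf_le_right.trans hc) h3 h4).trans h6
  have h8 : Nat.card ↥(𝒞[y] ⊓ D) * (𝒞[y]).relIndex D = Nat.card D := by
    rw [← inf_relIndex_right, relIndex, ← Nat.card_congr (subgroupOfEquivOfLe
      (inf_le_right : 𝒞[y] ⊓ D ≤ D)).toEquiv, card_mul_index]
  rw [← h8, mul_assoc, Nat.mul_dvd_mul_iff_left Nat.card_pos] at h7
  exact (hz.dvd_mul.1 h7).elim h2 h5

end Two

/-- Write `n₁ = [G:C(a)]`, `n₂ = [G:C(b)]`.  A prime `p` dividing both divides `|G|`, and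
`exists_not_dvd_index` gives `z ≠ 1` with `p ∤ [G:C(z)]`, contradicting `TH.dvd`. -/
theorem TH.coprime (h : TH a b) : (𝒞[a]).index.Coprime (𝒞[b]).index := by
  refine Nat.coprime_of_dvd fun p hp h1 h2 => ?_
  obtain ⟨z, hz, hz'⟩ := exists_not_dvd_index hp (h1.trans (index_dvd_card _))
  exact (h.dvd z (ne_one_of_prime hp hz)).elim (fun h3 => hz' (h1.trans h3))
    fun h3 => hz' (h2.trans h3)

/-- Heads are minimal: `n₂ ∣ [G:C(x)] ∣ n₁` is impossible. -/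
theorem TH.head (h : TH a b) {x : G} (hx : x ≠ 1) (hd : (𝒞[x]).index ∣ (𝒞[a]).index) :
    (𝒞[x]).index = (𝒞[a]).index := by
  exact (h.dvd x hx).elim (Nat.dvd_antisymm hd) fun h1 => absurd (h1.trans hd) h.ba

/-- Replace `a` by a power of prime order: `C(a) ≤ C(a^n)` and `TH.head`. -/
theorem TH.exists_prime (h : TH a b) :
    ∃ a' : G, (orderOf a').Prime ∧ 𝒞[a'] = 𝒞[a] ∧ TH a' b := by
  obtain ⟨p, n, hp, hn⟩ := exists_prime_pow h.a1
  have h1 := ne_one_of_prime hp hn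
  have h2 := eq_of_le_of_index_eq (cent_le_pow a n)
    (h.head h1 (index_dvd_of_le (cent_le_pow a n))).symm
  exact ⟨a ^ n, hn ▸ hp, h2.symm, h1, h.b1, h2 ▸ h.dvd, h2 ▸ h.ab, h2 ▸ h.ba⟩

/-- Elements of class size `n₁` do not commute with elements of class size `n₂`
(`not_comm_of_coprime`). -/
theorem TH.not_comm (hG : ¬ IsMulCommutative G) (h : TH a b) {x y : G} (hx : x ≠ 1) (hy : y ≠ 1)
    (ex : (𝒞[x]).index = (𝒞[a]).index) (ey : (𝒞[y]).index = (𝒞[b]).index) : y ∉ 𝒞[x] := by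
  exact not_comm_of_coprime hG hx hy (ex ▸ ey ▸ h.coprime)

/-- The prime order `r` of `a` divides `n₂`: otherwise `C(b)` contains a Sylow `r`-subgroup of `G`,
hence a conjugate of `a`, contradicting `TH.not_comm` (conjugates have the same index). -/
theorem TH.orderOf_dvd (hG : ¬ IsMulCommutative G) (h : TH a b) (ha : (orderOf a).Prime) :
    orderOf a ∣ (𝒞[b]).index := by
  by_contra hn
  have := Fact.mk ha
  have h1 : IsPGroup (orderOf a) (zpowers a) :=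
    IsPGroup.of_card (n := 1) (by rw [Nat.card_zpowers, pow_one])
  obtain ⟨q, hq⟩ := h1.nonempty_fixed_point_of_prime_not_dvd_card (G ⧸ 𝒞[b]) hn
  induction q using QuotientGroup.induction_on with | H g => ?_
  have h2 : (g : G)⁻¹ * (a * g) ∈ 𝒞[b] :=
    QuotientGroup.eq.1 (hq ⟨a, mem_zpowers a⟩).symm
  refine h.symm.not_comm hG h.b1 (y := MulAut.conj g⁻¹ a) ((MulEquiv.map_ne_one_iff _).2 h.a1) rfl
    (index_map _ a) ?_
  simpa [mul_assoc] using h2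

/-- `D = C(a) ⊓ C(b)` has index `n₁ n₂` (`Subgroup.index_inf_of_coprime`-type lemma:
`index_inf_le` and both `n₁, n₂` divide the index), so `|C(a)| = |D| n₂`, `|C(b)| = |D| n₁`
and `gcd(|C(a)|, |C(b)|) = |D|`. -/
theorem TH.card_inf (h : TH a b) :
    Nat.card 𝒞[a] = Nat.card ↥(𝒞[a] ⊓ 𝒞[b]) * (𝒞[b]).index ∧
      Nat.card 𝒞[b] = Nat.card ↥(𝒞[a] ⊓ 𝒞[b]) * (𝒞[a]).index := by
  have h1 : (𝒞[a] ⊓ 𝒞[b]).index = (𝒞[a]).index * (𝒞[b]).index :=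
    le_antisymm index_inf_le (Nat.le_of_dvd (Nat.pos_of_ne_zero index_ne_zero_of_finite)
      (h.coprime.mul_dvd_of_dvd_of_dvd (index_dvd_of_le inf_le_left) (index_dvd_of_le inf_le_right)))
  have h2 := (𝒞[a] ⊓ 𝒞[b]).card_mul_index
  rw [h1] at h2
  constructor
  · refine Nat.eq_of_mul_eq_mul_right (Nat.pos_of_ne_zero (index_ne_zero_of_finite (H := 𝒞[a]))) ?_
    rw [card_mul_index, ← h2]; ring
  · refine Nat.eq_of_mul_eq_mul_right (Nat.pos_of_ne_zero (index_ne_zero_of_finite (H := 𝒞[b]))) ?_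
    rw [card_mul_index, ← h2]; ring

namespace Two

theorem dvd_inf (h : TH a b) {p : ℕ} (hp : p.Prime) (h1 : p ∣ Nat.card 𝒞[a])
    (h2 : p ∣ Nat.card 𝒞[b]) : p ∣ Nat.card ↥(𝒞[a] ⊓ 𝒞[b]) := by
  rw [h.card_inf.1, hp.dvd_mul] at h1
  rw [h.card_inf.2, hp.dvd_mul] at h2
  by_contra h3
  exact hp.one_lt.ne' (Nat.eq_one_of_dvd_coprimes h.coprime (h2.resolve_left h3)
    (h1.resolve_left h3))

omit [IsSimpleGroup G] in
theorem not_dvd_of_no_common (hb : b ≠ 1)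
    (hc : ∀ x : G, x ≠ 1 → ¬ ((𝒞[a]).index ∣ (𝒞[x]).index ∧ (𝒞[b]).index ∣ (𝒞[x]).index))
    {y : G} (hy : y ∈ 𝒞[b]) (hco : (orderOf y).Coprime (orderOf b)) :
    ¬ (𝒞[a]).index ∣ (𝒞[y]).index := fun h =>
  hc _ (mul_ne_one_of_coprime hb hco) (by
    rw [cent_mul hy hco]
    exact ⟨h.trans (index_dvd_of_le inf_le_left), index_dvd_of_le inf_le_right⟩)

theorem no_common_aux (hG : ¬ IsMulCommutative G) (h : TH a b) (ha : (orderOf a).Prime)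
    (hb : (orderOf b).Prime)
    (hc : ∀ x : G, x ≠ 1 → ¬ ((𝒞[a]).index ∣ (𝒞[x]).index ∧ (𝒞[b]).index ∣ (𝒞[x]).index))
    {p : ℕ} (hp : p.Prime) (hd : p ∣ Nat.card ↥(𝒞[a] ⊓ 𝒞[b])) : p = orderOf b := by
  by_contra hpb
  obtain ⟨y, hy, h1, h2⟩ : ∃ y ∈ 𝒞[a] ⊓ 𝒞[b], orderOf y = p ∧ ¬ (𝒞[b]).index ∣ (𝒞[y]).index := by
    by_cases hpa : p = orderOf a
    · subst hpa
      obtain ⟨y, hy, h1, h2⟩ := exists_big (D := 𝒞[a] ⊓ 𝒞[b]) ha
        (fun h' => h.symm.not_comm hG h.b1 h.a1 rfl rfl h'.2) inf_le_left hd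
      refine ⟨y, hy, h1, ?_⟩
      rw [index_dvd_iff_card_dvd, h.card_inf.2]
      exact h2 _ _ inf_le_left (mem_cent_comm hy.1) fun h3 => hp.one_lt.ne'
        (Nat.eq_one_of_dvd_coprimes h.coprime h3 (h.orderOf_dvd hG ha))
    · obtain ⟨y, hy, h1, -⟩ := exists_rel hp hd
      exact ⟨y, hy, h1, not_dvd_of_no_common h.a1 (fun x hx h' => hc x hx h'.symm) hy.1
        (by rwa [h1, Nat.coprime_primes hp ha])⟩
  exact (h.dvd y (ne_one_of_prime hp h1)).elim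
    (not_dvd_of_no_common h.b1 hc hy.2 (by rwa [h1, Nat.coprime_primes hp hb])) h2

end Two

/-- If no class size is divisible by both `n₁` and `n₂` then `|C(a)|, |C(b)|` are coprime.
Proof: WLOG `a, b` have prime orders `r, s` (`exists_prime` twice).  Let `p ∣ |D|` be prime, `D_p` a
Sylow `p`-subgroup of `D`, `y ∈ Z(D_p)` of order `p`.  Claim `¬ n₂ ∣ [G:C(y)]`, i.e.
`|C(y)| ∤ |C(b)|` (`index_dvd_iff_card_dvd`).  If `p ≠ r`: `C(y a) = C(y) ⊓ C(a)` (`cent_mul`), `y a ≠ 1`,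
so `n₁ ∣ [G:C(ya)]`, and `[G:C(y)] ∣ [G:C(ya)]`, so `n₂ ∣ [G:C(y)]` would make `ya` common.  If `p = r`:
`a ∉ D` (`not_comm`), `a` centralizes `D`, so `D_p ⊔ ⟨a⟩` is a `p`-subgroup of `C(y)` properly
containing `D_p`: `p |D_p| ∣ |C(y)|`; but `r ∣ n₂` gives `r ∤ n₁`, so the `p`-part of `|C(b)| = |D| n₁` is
`|D_p|`.  By symmetry `¬ n₁ ∣ [G:C(y)]`; this contradicts `TH.dvd`. -/
theorem TH.cop_of_no_common (hG : ¬ IsMulCommutative G) (h : TH a b)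
    (hc : ∀ x : G, x ≠ 1 → ¬ ((𝒞[a]).index ∣ (𝒞[x]).index ∧ (𝒞[b]).index ∣ (𝒞[x]).index)) :
    (Nat.card 𝒞[a]).Coprime (Nat.card 𝒞[b]) := by
  obtain ⟨a', ha, e1, h1⟩ := h.exists_prime
  obtain ⟨b', hb, e2, h2⟩ := h1.symm.exists_prime
  rw [← e1, ← e2] at hc ⊢
  refine Nat.coprime_of_dvd fun p hp h3 h4 => ?_
  have h5 := Two.dvd_inf h2.symm hp h3 h4
  have h6 := Two.no_common_aux hG h2.symm ha hb hc hp h5
  have h7 := Two.no_common_aux hG h2 hb ha (fun x hx h' => hc x hx h'.symm) hp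
    (by rwa [inf_comm])
  exact hp.one_lt.ne' (Nat.eq_one_of_dvd_coprimes h2.coprime (h7 ▸ h2.symm.orderOf_dvd hG ha)
    (h6 ▸ h2.orderOf_dvd hG hb))

/-- If every class size not divisible by `n₁` equals `n₂`, the centre of `K = C(b)` contains, for each prime `p ∣ n₁`,
an element `z` of order `p` with `C(z) = K`.
Proof: WLOG `b` has prime order `s`.  (i) `p ≠ s`: `p ∤ n₂`, so `K` contains a Sylow `p`-subgroup `P` of `G`; `z ∈ Z(P)`
of order `p`; `C(z b) = C(z) ⊓ K ≥ P`, so `p ∤ [G:C(zb)]`, so `n₁ ∤ [G:C(zb)]`, so it is `n₂`, so `C(zb) = K`,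
`K ≤ C(z)`, and `C(z) = K` by `head`.  (ii) `p = s`: take `z = b`. -/
theorem TH.exists_central (h : TH a b)
    (hs : ∀ x : G, x ≠ 1 → ¬ (𝒞[a]).index ∣ (𝒞[x]).index → (𝒞[x]).index = (𝒞[b]).index)
    {p : ℕ} (hp : p.Prime) (hpa : p ∣ (𝒞[a]).index) : ∃ z : G, orderOf z = p ∧ 𝒞[z] = 𝒞[b] := by
  obtain ⟨b', hb, e, h1⟩ := h.symm.exists_prime
  rw [← e] at hs ⊢
  by_cases hpb : p = orderOf b'
  · exact ⟨b', hpb.symm, rfl⟩
  have h2 : ¬ p ∣ (𝒞[b']).index := fun h3 =>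
    hp.one_lt.ne' (Nat.eq_one_of_dvd_coprimes h1.coprime h3 hpa)
  obtain ⟨z, hz, h3, h4⟩ := Two.exists_rel (K := 𝒞[b']) hp ((hp.dvd_mul.1 (by
    rw [card_mul_index]; exact hpa.trans (index_dvd_card _))).resolve_right h2)
  have h5 : (orderOf z).Coprime (orderOf b') := by rwa [h3, Nat.coprime_primes hp hb]
  have h6 := cent_mul hz h5
  have h7 := hs _ (mul_ne_one_of_coprime h1.a1 h5) fun h7 => by
    have h8 := hpa.trans h7
    rw [h6, ← relIndex_mul_index (inf_le_right : 𝒞[z] ⊓ 𝒞[b'] ≤ 𝒞[b']), inf_relIndex_right] at h8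
    exact (hp.dvd_mul.1 h8).elim h4 h2
  rw [h6] at h7
  have h8 : 𝒞[b'] ≤ 𝒞[z] := (eq_of_le_of_index_eq inf_le_right h7).ge.trans inf_le_left
  exact ⟨z, h3, (eq_of_le_of_index_eq h8
    (h1.head (ne_one_of_prime hp h3) (index_dvd_of_le h8)).symm).symm⟩

namespace Two

theorem exists_two (hG : ¬ IsMulCommutative G) (h : TH a b)
    (hs : ∀ x : G, x ≠ 1 → ¬ (𝒞[a]).index ∣ (𝒞[x]).index → (𝒞[x]).index = (𝒞[b]).index) :
    ∃ z₁ z₂ : G, (orderOf z₁).Prime ∧ (orderOf z₂).Prime ∧ orderOf z₁ ≠ orderOf z₂ ∧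
      orderOf z₁ ∣ (𝒞[a]).index ∧ 𝒞[z₁] = 𝒞[b] ∧ 𝒞[z₂] = 𝒞[b] := by
  obtain ⟨p, hp, hpa⟩ := Nat.exists_prime_and_dvd
    (fun e => cent_ne_top hG h.a1 (index_eq_one.1 e) : (𝒞[a]).index ≠ 1)
  obtain ⟨q, hq, hqa, hqp⟩ : ∃ q : ℕ, q.Prime ∧ q ∣ (𝒞[a]).index ∧ q ≠ p := by
    by_contra hn
    push Not at hn
    exact index_ne_pow hG h.a1 hp (Nat.eq_prime_pow_of_unique_prime_dvd
      index_ne_zero_of_finite fun {q} hq hd => hn q hq hd)
  obtain ⟨z₁, rfl, h1⟩ := h.exists_central hs hp hpa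
  obtain ⟨z₂, rfl, h2⟩ := h.exists_central hs hq hqa
  exact ⟨z₁, z₂, hp, hq, hqp.symm, hpa, h1, h2⟩

omit [IsSimpleGroup G] in
theorem le_cent
    (hs : ∀ x : G, x ≠ 1 → ¬ (𝒞[a]).index ∣ (𝒞[x]).index → (𝒞[x]).index = (𝒞[b]).index)
    {w z : G} (hz : (orderOf z).Prime) (hzb : 𝒞[z] = 𝒞[b]) (hw : w ∈ 𝒞[b])
    (hco : (orderOf w).Coprime (orderOf z)) (hn : ¬ Nat.card ↥(𝒞[w] ⊓ 𝒞[b]) ∣ Nat.card 𝒞[a]) :
    𝒞[b] ≤ 𝒞[w] := by
  have h1 := cent_mul (hzb ▸ hw) hco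
  rw [hzb] at h1
  have h2 := hs _ (mul_ne_one_of_coprime (ne_one_of_prime hz rfl) hco)
    (by rwa [index_dvd_iff_card_dvd, h1])
  rw [h1] at h2
  exact (eq_of_le_of_index_eq inf_le_right h2).ge.trans inf_le_left

end Two

/-- Lemma B1.  `n₁` is not a prime power (`index_ne_pow`, `n₁ ≠ 1` by `cent_ne_top`), so it has two prime divisors
`p₁ ≠ p₂`, with `z₁, z₂` from `exists_central`.
Coprimality: suppose `D ≠ 1`.  If some `p ∈ {p₁,p₂}`, say `p₁`, divides `|D|`, take `y ∈ Z(D_p)` of order `p`;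
`z₁ ∉ D` (`not_comm`: `z₁` has class size `n₂`), so `D_p ⊔ ⟨z₁⟩ ≤ C(y) ⊓ K = C(y z₂)` and `|C(y z₂)| ∤ |D|`.
Otherwise take any `y ∈ D` of prime order `p ∉ {p₁,p₂}`: `z₂ ∈ C(y z₂)`, so again `|C(y z₂)| ∤ |D|`.  As `|C(y z₂)|` divides
`|K|` and `gcd(|C(a)|,|K|) = |D|`, `|C(y z₂)| ∤ |C(a)|`, so `[G:C(y z₂)] = n₂`, `C(y z₂) = K ≤ C(y)`, `[G:C(y)] = n₂`
(`head`), and `y ∈ C(a)` contradicts `not_comm`.
CC and abelian: let `1 ≠ x ∈ K` have prime power order, `z ∈ {z₁,z₂}` of coprime order; `|C(xz)| > 1` divides `|K|`, so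
it does not divide `|C(a)|`; hence `C(xz) = K ≤ C(x)`.  Every `x ∈ K` is a product of prime-power-order powers of itself
(induct, or: the subgroup `{x | K ≤ C(x)}` contains every Sylow subgroup of `zpowers x`), so `K` is abelian; and for
`1 ≠ x ∈ K`, `K ≤ C(x)` gives `C(x) = K` by `head`. -/
theorem TH.single (hG : ¬ IsMulCommutative G) (h : TH a b)
    (hs : ∀ x : G, x ≠ 1 → ¬ (𝒞[a]).index ∣ (𝒞[x]).index → (𝒞[x]).index = (𝒞[b]).index) :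
    (Nat.card 𝒞[a]).Coprime (Nat.card 𝒞[b]) ∧ IsCC 𝒞[b] ∧
      ∀ x ∈ 𝒞[b], ∀ y ∈ 𝒞[b], x * y = y * x := by
  obtain ⟨z₁, z₂, hp, hq, hpq, hpa, e1, e2⟩ := Two.exists_two hG h hs
  have h1 : ¬ orderOf z₁ ∣ (𝒞[b]).index := fun h3 =>
    hp.one_lt.ne' (Nat.eq_one_of_dvd_coprimes h.coprime hpa h3)
  have hz₁ : z₁ ∈ 𝒞[b] := e1 ▸ mem_cent1_iff.2 rfl
  have hco : (Nat.card 𝒞[a]).Coprime (Nat.card 𝒞[b]) := by
    refine Nat.coprime_of_dvd fun r hr h2 h3 => ?_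
    have h4 := Two.dvd_inf h hr h2 h3
    obtain ⟨y, hy, hy1, h5⟩ : ∃ y ∈ 𝒞[a] ⊓ 𝒞[b], y ≠ 1 ∧ 𝒞[b] ≤ 𝒞[y] := by
      by_cases h5 : orderOf z₁ ∣ Nat.card ↥(𝒞[a] ⊓ 𝒞[b])
      · obtain ⟨y, hy, h6, h7⟩ := Two.exists_big (D := 𝒞[a] ⊓ 𝒞[b]) hp (fun h' => h.not_comm hG h.a1
          (ne_one_of_prime hp rfl) rfl (by rw [e1]) h'.1) (inf_le_right.trans e1.ge) h5
        refine ⟨y, hy, ne_one_of_prime hp h6, Two.le_cent hs hq e2 hy.2
          (by rwa [h6, Nat.coprime_primes hp hq]) ?_⟩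
        rw [h.card_inf.1]
        exact h7 _ _ (inf_le_inf_left _ inf_le_right) ⟨mem_cent_comm (e1 ▸ hy.2), hz₁⟩ h1
      · obtain ⟨y, hy, h6, -⟩ := Two.exists_rel hr h4
        refine ⟨y, hy, ne_one_of_prime hr h6, Two.le_cent hs hp e1 hy.2
          (by rw [h6, Nat.coprime_primes hr hp]; rintro rfl; exact h5 h4) fun h7 => ?_⟩
        have h8 := (Subgroup.orderOf_dvd_natCard (𝒞[y] ⊓ 𝒞[b])
          ⟨mem_cent_comm (e1 ▸ hy.2), hz₁⟩).trans h7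
        rw [h.card_inf.1] at h8
        exact (hp.dvd_mul.1 h8).elim h5 h1
    exact h.not_comm hG h.a1 hy1 rfl (h.symm.head hy1 (index_dvd_of_le h5)) hy.1
  have h2 : ∀ w ∈ 𝒞[b], ¬ Nat.card ↥(𝒞[w] ⊓ 𝒞[b]) ∣ Nat.card 𝒞[a] := fun w hw h3 =>
    h.b1 (mem_bot.1 ((card_eq_one.1 (Nat.eq_one_of_dvd_coprimes hco h3
      (card_dvd_of_le inf_le_right))).le ⟨mem_cent_comm hw, mem_cent1_iff.2 rfl⟩))
  have h3 : ∀ x ∈ 𝒞[b], 𝒞[b] ≤ 𝒞[x] := fun x hx => by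
    have := Fact.mk hp
    obtain ⟨u, v, hu, hv, ⟨k, hk⟩, hvc, rfl⟩ := Transfer.exists_pPart_mul (p := orderOf z₁) x
    have h4 := Two.le_cent hs hp e1 (zpowers_le.2 hx hv) hvc (h2 _ (zpowers_le.2 hx hv))
    have h5 := Two.le_cent hs hq e2 (zpowers_le.2 hx hu)
      ((((Nat.coprime_primes hp hq).2 hpq).pow_left k).coprime_dvd_left
        (orderOf_dvd_of_pow_eq_one hk)) (h2 _ (zpowers_le.2 hx hu))
    exact fun g hg => mem_cent1_iff.2 (Commute.mul_right (mem_cent1_iff.1 (h5 hg))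
      (mem_cent1_iff.1 (h4 hg)))
  exact ⟨hco, fun x hx hx1 => (eq_of_le_of_index_eq (h3 x hx)
    (h.symm.head hx1 (index_dvd_of_le (h3 x hx))).symm).ge,
    fun x hx y hy => mem_cent1_iff.1 (h3 y hy hx)⟩

/-- Under the hypothesis of `single`, elements of class size `n₁` are isolated in their centralizer:
`isolated_of_cc` with `y := z₁`, `p := p₁`, `w := z₂` (rewrite `C(z₁) = C(b)`), `x ∉ C(z₁)` by `not_comm`. -/
theorem TH.isolated (hG : ¬ IsMulCommutative G) (h : TH a b)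
    (hs : ∀ x : G, x ≠ 1 → ¬ (𝒞[a]).index ∣ (𝒞[x]).index → (𝒞[x]).index = (𝒞[b]).index)
    {x : G} (hx : x ≠ 1) (ex : (𝒞[x]).index = (𝒞[a]).index) {g : G}
    (hg : g * x * g⁻¹ ∈ 𝒞[x]) : g ∈ 𝒞[x] := by
  obtain ⟨z₁, z₂, hp, hq, hpq, -, e1, e2⟩ := Two.exists_two hG h hs
  obtain ⟨-, h1, h2⟩ := h.single hG hs
  have h3 := ne_one_of_prime hp rfl
  exact isolated_of_cc hG hx h3 (e1 ▸ h1) (e1 ▸ h2)
    (h.symm.not_comm hG h3 hx (by rw [e1]) ex) (by rw [e1, ex]; exact h.coprime.symm)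
    (pow_orderOf_eq_one z₁) ⟨z₂, by rw [e1, ← e2, mem_cent1_iff], fun h4 =>
      hpq ((Nat.prime_dvd_prime_iff_eq hq hp).1 (orderOf_dvd_of_pow_eq_one h4)).symm⟩ hg

/-- ... hence no 2-element has class size `n₁`: a power `t` of `u` is an involution (`exists_inv_pow`) of class size `n₁`
(`cent_le_pow`, `head`), it is an isolated involution, so by `ZStar.commutator_mem_oddCore_of_isolated` and
`oddCore G = ⊥` (normal of odd order, `|G|` even) it is central, contradicting `cent_ne_top`. -/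
theorem TH.no_two (hG : ¬ IsMulCommutative G) (h : TH a b)
    (hs : ∀ x : G, x ≠ 1 → ¬ (𝒞[a]).index ∣ (𝒞[x]).index → (𝒞[x]).index = (𝒞[b]).index)
    {u : G} (hu : u ≠ 1) (hk : ∃ k, u ^ 2 ^ k = 1) : (𝒞[u]).index ≠ (𝒞[a]).index := by
  intro e
  obtain ⟨k, hk⟩ := hk
  obtain ⟨n, hn⟩ := exists_inv_pow hu hk
  have h1 := ne_one_of_prime Nat.prime_two hn
  have h2 := h.head h1 (e ▸ index_dvd_of_le (cent_le_pow u n))
  exact hG ⟨⟨Inv.ZStar.comm_of_simple_of_isolated ⟨hn, fun g hg => by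
    rw [mem_cent1_iff.1 (h.isolated hG hs h1 h2 (mem_cent1_iff.2 hg.symm)),
      mul_inv_cancel_right]⟩⟩⟩

end Cfsg.Agent.Ito4
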