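import Mathlib
import Cfsg.Agent.Ito4.Defs

/-! `A₇` has at least six class sizes `> 1`. -/

set_option autoImplicit false

namespace Cfsg.Agent.Ito4

open Cfsg Cfsg.Agent.FT Cfsg.Agent.Inv.ClsIdx Subgroup

namespace RkA7

theorem card_cent {n : ℕ} (x : alternatingGroup (Fin n)) {s : ℕ}
    (hs : Nat.card 𝒞[(x : Equiv.Perm (Fin n))] = s) :
    Nat.card 𝒞[x] = s ∨ 2 * Nat.card 𝒞[x] = s := by
  have h1 : (𝒞[x] : Subgroup (alternatingGroup (Fin n))) =
      (𝒞[(x : Equiv.Perm (Fin n))]).subgroupOf (alternatingGroup (Fin n)) :=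
    Subgroup.ext fun g => by
      rw [mem_subgroupOf, mem_cent1_iff, mem_cent1_iff, Subtype.ext_iff]; rfl
  have h2 : Nat.card 𝒞[x] * (alternatingGroup (Fin n)).relIndex 𝒞[(x : Equiv.Perm (Fin n))] = s := by
    rw [h1, ← hs, ← inf_subgroupOf_right, Nat.card_congr (subgroupOfEquivOfLe inf_le_right).toEquiv,
      ← Nat.card_congr (subgroupOfEquivOfLe inf_le_left).toEquiv, inf_subgroupOf_left, relIndex,
      card_mul_index]
  have h3 := relIndex_dvd_index_of_normal (alternatingGroup (Fin n)) 𝒞[(x : Equiv.Perm (Fin n))]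
  have h4 : (alternatingGroup (Fin n)).index ∣ 2 := by
    rw [alternatingGroup, index_ker]
    simpa using card_subgroup_dvd_card (Equiv.Perm.sign (α := Fin n)).range
  rcases (Nat.dvd_prime Nat.prime_two).1 (h3.trans h4) with h | h <;> rw [h] at h2 <;> omega

theorem exists_elt (g : Equiv.Perm (Fin 7)) (m : Multiset ℕ) (s : ℕ)
    (h : g ≠ 1 ∧ Equiv.Perm.sign g = 1 ∧ g.cycleType = m)
    (hs : (7 - m.sum).factorial * m.prod * ∏ n ∈ m.toFinset, (m.count n).factorial = s) :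
    ∃ x : alternatingGroup (Fin 7), x ≠ 1 ∧ (Nat.card 𝒞[x] = s ∨ 2 * Nat.card 𝒞[x] = s) :=
  ⟨⟨g, Equiv.Perm.mem_alternatingGroup.2 h.2.1⟩, fun e => h.1 (congrArg Subtype.val e),
    card_cent _ (by rw [Equiv.Perm.nat_card_centralizer, h.2.2, Fintype.card_fin, hs])⟩

end RkA7

/-- `A₇` has at least six centralizer orders.
Proof: for `x ∈ A₇` the centralizer in `A₇` is `C_{S₇}(x) ⊓ A₇`, of index 1 or 2 in `C_{S₇}(x)`.
Take cycle types 7, 5, 3, 3², 2², 4·2: `s = 7, 10, 72, 18, 48, 8`; the sets `{s, s/2}` are pairwise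
disjoint. -/
theorem six_le_A7 : 6 ≤ (IX (alternatingGroup (Fin 7))).ncard := by
  obtain ⟨x0, a0, b0⟩ := RkA7.exists_elt c[0, 1, 2, 3, 4, 5, 6] {7} 7 (by decide +kernel) (by decide)
  obtain ⟨x1, a1, b1⟩ := RkA7.exists_elt c[0, 1, 2, 3, 4] {5} 10 (by decide +kernel) (by decide)
  obtain ⟨x2, a2, b2⟩ := RkA7.exists_elt c[0, 1, 2] {3} 72 (by decide +kernel) (by decide)
  obtain ⟨x3, a3, b3⟩ := RkA7.exists_elt (c[0, 1, 2] * c[3, 4, 5]) {3, 3} 18 (by decide +kernel)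
    (by decide)
  obtain ⟨x4, a4, b4⟩ := RkA7.exists_elt (c[0, 1] * c[2, 3]) {2, 2} 48 (by decide +kernel)
    (by decide)
  obtain ⟨x5, a5, b5⟩ := RkA7.exists_elt (c[0, 1, 2, 3] * c[4, 5]) {4, 2} 8 (by decide +kernel)
    (by decide)
  let s : Fin 6 → ℕ := ![7, 10, 72, 18, 48, 8]
  have h1 : ∀ i j, s i = s j ∨ s i = 2 * s j ∨ 2 * s i = s j → i = j := by decide
  have h2 : ∀ i, Nat.card 𝒞[![x0, x1, x2, x3, x4, x5] i] = s i ∨
      2 * Nat.card 𝒞[![x0, x1, x2, x3, x4, x5] i] = s i := fun i => by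
    fin_cases i <;> assumption
  refine le_ncard_IX ![x0, x1, x2, x3, x4, x5] (fun i => by fin_cases i <;> assumption)
    fun i j h => h1 i j ?_
  have := h2 i
  have := h2 j
  omega

end Cfsg.Agent.Ito4
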