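import Mathlib
import Cfsg.Agent.Ito4.Defs
import Cfsg.Agent.S2507
import Cfsg.Agent.S2508
import Cfsg.Agent.S0252
import Cfsg.Agent.S0253

/-! Number of class sizes of `PSL(2,q)`. -/

set_option autoImplicit false

namespace Cfsg.Agent.Ito4

open Cfsg Cfsg.Agent.FT Cfsg.Agent.Inv.ClsIdx Subgroup

theorem IX_simple {G : Type*} [Group G] [IsSimpleGroup G] {S : Set ℕ}
    (h : Set.range (fun g : G => (𝒞[g]).index) = insert 1 S) (h1 : 1 ∉ S) (h2 : S.Nonempty) :
    IX G = S := by
  have c : ∀ x : G, (𝒞[x]).index = 1 ↔ x ∈ center G := fun x => by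
    rw [index_eq_one, centralizer_eq_top_iff_subset, Set.singleton_subset_iff, SetLike.mem_coe]
  have z : center G = ⊥ := (inferInstance : (center G).Normal).eq_bot_or_eq_top.resolve_right fun e =>
    let ⟨m, hm⟩ := h2
    let ⟨x, hx⟩ := h.ge (.inr hm)
    h1 (((c x).2 (e ▸ mem_top x)).symm.trans hx ▸ hm)
  ext m
  refine ⟨fun ⟨x, a, b⟩ => (h.le ⟨x, b.symm⟩).resolve_left fun e =>
    a (mem_bot.1 (z ▸ (c x).1 (b.symm.trans e))), fun hm => ?_⟩
  obtain ⟨x, hx⟩ := h.ge (.inr hm)
  exact ⟨x, fun e => h1 (((c x).2 (e ▸ one_mem _)).symm.trans hx ▸ hm), hx.symm⟩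

theorem ncard_L2_even {F : Type*} [Field F] [Fintype F] (h2 : 2 ∣ Fintype.card F)
    (h4 : 4 ≤ Fintype.card F) :
    (IX (Matrix.ProjectiveSpecialLinearGroup (Fin 2) F)).ncard ≤ 3 := by
  have := Matrix.ProjectiveSpecialLinearGroup.rank_two_simple (F := F)
    (by rwa [Nat.card_eq_fintype_card])
  obtain ⟨k, hk⟩ : ∃ k, Fintype.card F = k + 1 := ⟨_, (Nat.succ_pred_eq_of_pos (by omega)).symm⟩
  have h := S2507.result h2 h4
  rw [hk, show (k + 1) ^ 2 - 1 = k * (k + 2) from Nat.sub_eq_of_eq_add (by ring),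
    Nat.add_sub_cancel] at h
  have k3 : 3 ≤ k := by omega
  rw [IX_simple h (by
    simp only [Set.mem_insert_iff, Set.mem_singleton_iff]
    rintro (e | e | e) <;> nlinarith) (Set.insert_nonempty _ _)]
  exact (Set.ncard_insert_le _ _).trans (Nat.succ_le_succ ((Set.ncard_insert_le _ _).trans
    (by rw [Set.ncard_singleton])))

/-- `PSL(2,q)`, `q ≥ 7` odd, has exactly four class sizes `> 1`.
Proof: the group is simple (`Matrix.ProjectiveSpecialLinearGroup.rank_two_simple`, needs `4 ≤ Nat.card F`)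
and non-abelian (S2508: some index is `> 1`), so for `x ≠ 1` the index is `≠ 1` (`cent_ne_top`); hence
`IX = range \ {1}`; `S2508.result` gives the range; with `q = 4k+1` resp. `4k+3` the four numbers
are pairwise different and `≠ 1` (`Set.ncard_eq_four` or `ncard_insert_of_notMem`, `omega/nlinarith`). -/
theorem ncard_L2_odd {F : Type*} [Field F] [Fintype F] (hodd : Odd (Fintype.card F))
    (h7 : 7 ≤ Fintype.card F) :
    (IX (Matrix.ProjectiveSpecialLinearGroup (Fin 2) F)).ncard = 4 := by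
  have := Matrix.ProjectiveSpecialLinearGroup.rank_two_simple (F := F)
    (by rw [Nat.card_eq_fintype_card]; omega)
  obtain ⟨k, hk⟩ := hodd
  have h := S2508.result (F := F) (by omega) h7
  have k3 : 3 ≤ k := by omega
  have e1 : ((2 * k + 1) ^ 2 - 1) / 2 = k * (2 * k + 2) := by
    rw [show (2 * k + 1) ^ 2 - 1 = 2 * (k * (2 * k + 2)) from Nat.sub_eq_of_eq_add (by ring),
      Nat.mul_div_cancel_left _ two_pos]
  have e2 : (2 * k + 1) * (2 * k + 1 + 1) / 2 = (2 * k + 1) * (k + 1) :=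
    Nat.div_eq_of_eq_mul_right two_pos (by ring)
  have e3 : (2 * k + 1) * (2 * k) / 2 = (2 * k + 1) * k :=
    Nat.div_eq_of_eq_mul_right two_pos (by ring)
  rw [hk, e1, e2, Nat.add_sub_cancel, e3] at h
  rcases (by omega : (2 * k + 1) % 4 = 1 ∨ (2 * k + 1) % 4 = 3) with e | e
  · rw [IX_simple (h.1 e) (by
      simp only [Set.mem_insert_iff, Set.mem_singleton_iff]
      rintro (e | e | e | e) <;> nlinarith) (Set.insert_nonempty _ _)]
    exact Set.ncard_eq_four.2 ⟨_, _, _, _, by nlinarith, by nlinarith, by nlinarith, by nlinarith,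
      by nlinarith, by nlinarith, rfl⟩
  · rw [IX_simple (h.2 e) (by
      simp only [Set.mem_insert_iff, Set.mem_singleton_iff]
      rintro (e | e | e | e) <;> nlinarith) (Set.insert_nonempty _ _)]
    exact Set.ncard_eq_four.2 ⟨_, _, _, _, by nlinarith, by nlinarith, by nlinarith, by nlinarith,
      by nlinarith, by nlinarith, rfl⟩

/-- `PSL(2,q)`, `q > 3`, `q` even or `q = 5`: at most three class sizes `> 1`.
Proof: `q` even: `IX ⊆ range \ {1}` as above, `S2507.result`, `Set.ncard_le_ncard` and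
`Set.ncard_insert_le`.  `q` odd and `3 < q < 7` gives `q = 5`; then
`PSL(2,5) ≅ A₅ ≅ PSL(2,4)` (`S0253.result`, `S0252.result` with `GaloisField 2 2`,
`Fintype.ofFinite`, `GaloisField.card`) and `IX_congr`. -/
theorem ncard_L2_le_three {F : Type*} [Field F] [Fintype F] (h3 : 3 < Fintype.card F)
    (h : ¬ (Odd (Fintype.card F) ∧ 7 ≤ Fintype.card F)) :
    (IX (Matrix.ProjectiveSpecialLinearGroup (Fin 2) F)).ncard ≤ 3 := by
  by_cases h2 : 2 ∣ Fintype.card F
  · exact ncard_L2_even h2 h3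
  have h5 : Fintype.card F = 5 := by
    rw [Nat.odd_iff] at h
    omega
  have := Fact.mk Nat.prime_two
  have := Fintype.ofFinite (GaloisField 2 2)
  have h4 : Fintype.card (GaloisField 2 2) = 4 := by
    rw [← Nat.card_eq_fintype_card, GaloisField.card 2 2 two_ne_zero]; rfl
  obtain ⟨e⟩ := S0253.result h5
  obtain ⟨e'⟩ := S0252.result h4
  rw [IX_congr (e.trans e'.symm)]
  exact ncard_L2_even (by omega) h4.ge

end Cfsg.Agent.Ito4
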