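import Mathlib
import Cfsg.Agent.Ito4.Defs
import Cfsg.Agent.S4355
import Cfsg.Agent.S2238
import Cfsg.Agent.S0333
import Cfsg.Agent.S0324
import Cfsg.Agent.S0330
import Cfsg.Agent.Chev.SzLie
import Cfsg.Agent.No6.Mod3
import Cfsg.Agent.S3240

/-! `Sz(q)` and `L₃(4)` have at least five class sizes `> 1`. -/

set_option autoImplicit false

namespace Cfsg.Agent.Ito4

open Cfsg Cfsg.Agent.FT Cfsg.Agent.Inv.ClsIdx Subgroup

namespace RkSz

variable {G : Type*} [Group G] [Finite G]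

theorem exists_order {w : G} {s : ℕ} (hs : s.Prime) (hd : s ∣ Nat.card 𝒞[w])
    (hc : s.Coprime (orderOf w)) : ∃ g : G, orderOf g = s * orderOf w := by
  have := Fact.mk hs
  obtain ⟨t, ht⟩ := exists_prime_orderOf_dvd_card' s hd
  rw [← Subgroup.orderOf_coe] at ht
  exact ⟨t * w, by
    rw [Commute.orderOf_mul_eq_mul_orderOf_of_coprime (mem_cent1_iff.1 t.2) (ht ▸ hc), ht]⟩

theorem not_comm_of_dihedral {a b : G} (ha : a * a = 1) (hb : b * b = 1) (h4 : (a * b) ^ 4 = 1)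
    (hab : a * b ≠ b * a) (P : Sylow 2 G) : ¬ IsMulCommutative P := fun h => by
  have h1 : ∀ g : G, g ^ 4 = 1 → IsPGroup 2 (zpowers g) := fun g hg =>
    IsPGroup.of_card_dvd_pow (n := 2) (by rw [Nat.card_zpowers]; exact orderOf_dvd_of_pow_eq_one hg)
  have h2 : IsPGroup 2 ↥(zpowers a ⊔ zpowers (a * b)) :=
    IsPGroup.to_sup_of_normal_right' (h1 a (by rw [show 4 = 2 * 2 from rfl, pow_mul, sq a, ha, one_pow]))
      (h1 _ h4) (zpowers_le.2 (mem_normalizer_fintype (by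
        rintro _ ⟨i, rfl⟩
        rw [← conj_zpow]
        refine zpow_mem (inv_mem_iff.1 ?_) i
        rw [show (a * (a * b) * a⁻¹)⁻¹ = a * b by
          rw [← mul_assoc, ha, one_mul, mul_inv_rev, inv_inv, inv_eq_of_mul_eq_one_right hb]]
        exact mem_zpowers _)))
  obtain ⟨Q, hQ⟩ := h2.exists_le_sylow
  have h3 : ∀ u v : Q, u * v = v * u := fun u v => (Sylow.equiv Q P).injective (by
    rw [map_mul, map_mul, h.1.1])
  have h5 := congrArg Subtype.val (h3 ⟨a, hQ (mem_sup_left (mem_zpowers _))⟩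
    ⟨a * b, hQ (mem_sup_right (mem_zpowers _))⟩)
  exact hab (mul_left_cancel (a := a) (by simpa [mul_assoc] using h5))

end RkSz

/-- A group with a non-abelian Sylow 2-subgroup and three non-identity elements with pairwise
different odd centralizer orders has at least five class sizes `> 1`.
Proof: `exists_not_dvd_index` (p = 2; `2 ∣ |G|` since `P` is non-abelian, so non-trivial) gives an
involution `z` of odd index; the contrapositive of `S4355.result` gives a 2-element `u` with even index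
(so `u ≠ 1`).  `|C(z)|`, `|C(u)|` are even (they contain `z`, resp. `u`: `orderOf_dvd_natCard`),
and different (`index_eq_iff_card_eq`).  Apply `le_ncard_IX` to `![z,u,x,y,w]`. -/
theorem five_le_of {G : Type*} [Group G] [Finite G] (P : Sylow 2 G) (hP : ¬ IsMulCommutative P)
    {x y w : G} (hx : x ≠ 1) (hy : y ≠ 1) (hw : w ≠ 1) (ox : Odd (Nat.card 𝒞[x]))
    (oy : Odd (Nat.card 𝒞[y])) (ow : Odd (Nat.card 𝒞[w])) (hxy : Nat.card 𝒞[x] ≠ Nat.card 𝒞[y])
    (hxw : Nat.card 𝒞[x] ≠ Nat.card 𝒞[w]) (hyw : Nat.card 𝒞[y] ≠ Nat.card 𝒞[w]) :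
    5 ≤ (IX G).ncard := by
  have h1 : 2 ∣ Nat.card G := by
    refine dvd_trans (P.isPGroup'.card_eq_or_dvd.resolve_left fun h => hP ?_)
      (card_subgroup_dvd_card _)
    have := (Nat.card_eq_one_iff_unique.1 h).1
    exact ⟨⟨fun a b => Subsingleton.elim _ _⟩⟩
  obtain ⟨z, hz, hz2⟩ := exists_not_dvd_index Nat.prime_two h1
  obtain ⟨u, ⟨k, hk⟩, hu⟩ : ∃ u : G, (∃ k : ℕ, orderOf u = 2 ^ k) ∧ 2 ∣ (𝒞[u]).index := by
    by_contra! h
    exact hP (S4355.result h P)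
  have hu1 : u ≠ 1 := by
    rintro rfl
    rw [show (𝒞[(1 : G)] : Subgroup G) = ⊤ from eq_top_iff.2 fun g _ => mem_cent1_iff.2 (by simp),
      index_top] at hu
    omega
  have ez : 2 ∣ Nat.card 𝒞[z] := hz ▸ Subgroup.orderOf_dvd_natCard _ (mem_cent1_iff.2 rfl)
  have eu : 2 ∣ Nat.card 𝒞[u] := by
    refine dvd_trans ?_ (Subgroup.orderOf_dvd_natCard _ (mem_cent1_iff.2 rfl : u ∈ 𝒞[u]))
    rw [hk]
    refine dvd_pow_self 2 ?_
    rintro rfl
    exact hu1 (orderOf_eq_one_iff.1 hk)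
  have hzu : Nat.card 𝒞[z] ≠ Nat.card 𝒞[u] := fun h => hz2 (index_eq_iff_card_eq.2 h ▸ hu)
  rw [Nat.odd_iff] at ox oy ow
  let s : Fin 5 → ℕ := ![Nat.card 𝒞[z], Nat.card 𝒞[u], Nat.card 𝒞[x], Nat.card 𝒞[y],
    Nat.card 𝒞[w]]
  have h2 : ∀ i, Nat.card 𝒞[![z, u, x, y, w] i] = s i := fun i => by fin_cases i <;> rfl
  have hz1 := ne_one_of_prime Nat.prime_two hz
  refine le_ncard_IX ![z, u, x, y, w] (fun i => by fin_cases i <;> assumption) fun i j h => ?_
  rw [h2, h2] at h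
  fin_cases i <;> fin_cases j <;> simp only [s] at h ⊢ <;> first | rfl | (simp at h; omega)

/-- Proof: transport to `Cfsg.Sz F m` (`Chev.SzField.of_fintype`, `Chev.Suz.lieEquiv`, `IX_congr`; see
`ClsIdx.not_Sz`).  `q = 2^(2m+1)`, `r = 2^(m+1)`, `r*r = 2q`.  S0333: generators `x, y` of the cyclic groups
of orders `q+r+1`, `q-r+1` (both odd, `> 1`, different) have these centralizer orders.  Take a prime
`p ∣ q-1` and `w` of order `p` (S0324 + Cauchy).  `p ∣ |C(w)|`, `p ∤ (q+r+1)(q-r+1) = q²+1` (as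
`q ≡ 1 mod p`, `p` odd), so `|C(w)|` differs from both.  `|C(w)|` is odd: otherwise an involution `t`
commutes with `w`, `t*w` has order `2p` (`Commute.orderOf_mul_eq_mul_orderOf_of_coprime`), but by S2238 it lies in a Sylow
2-subgroup or in a subgroup of odd order.  Sylow 2-subgroups are non-abelian: S0330
(`|P| = q²`, `|Z(P)| = q`). Apply `five_le_of`. -/
theorem five_le_Sz {G : Type*} [Group G] [Finite G] (h : Lie.IsoSuzuki G) : 5 ≤ (IX G).ncard := by
  obtain ⟨F, _, _, m, hm, hF, ⟨e⟩⟩ := h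
  have := Chev.SzField.of_fintype hm hF
  rw [IX_congr (e.trans (Chev.Suz.lieEquiv F).symm)]
  have : Finite (Sz F m) := Finite.of_equiv _ (e.trans (Chev.Suz.lieEquiv F).symm).toEquiv
  obtain ⟨P⟩ := (inferInstance : Nonempty (Sylow 2 (Sz F m)))
  obtain ⟨c, hc⟩ : ∃ c, 2 ^ m = 2 * c := ⟨2 ^ (m - 1), by rw [← pow_succ']; congr 1; omega⟩
  have hc0 : 0 < c := by have := Nat.pos_of_ne_zero (pow_ne_zero m two_ne_zero); omega
  have hq : 2 ^ (2 * m + 1) = 8 * c ^ 2 := by rw [pow_succ, pow_mul', hc]; ring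
  have hr : 2 ^ (m + 1) = 4 * c := by rw [pow_succ, hc]; ring
  have hcc : c ≤ c ^ 2 := Nat.le_self_pow two_ne_zero c
  have h1 : ∀ k ∈ ({2 ^ (2 * m + 1) + 2 ^ (m + 1) + 1, 2 ^ (2 * m + 1) - 2 ^ (m + 1) + 1} : Set ℕ),
      ∃ x : Sz F m, x ≠ 1 ∧ Nat.card 𝒞[x] = k := fun k hk => by
    obtain ⟨U, -, h1, h2, -⟩ := S0333.result hm hF k hk
    obtain ⟨x, hx⟩ := (ne_bot_iff_exists_ne_one (H := U)).1 fun h => by
      rw [h, card_bot] at h1
      rcases hk with hk | hk <;> rw [hk] at h1 <;> omega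
    have h3 : (x : Sz F m) ≠ 1 := fun h => hx (Subtype.ext h)
    exact ⟨x, h3, by rw [h2 x x.2 h3, h1]⟩
  obtain ⟨x, hx, ex⟩ := h1 _ (Or.inl rfl)
  obtain ⟨y, hy, ey⟩ := h1 _ (Or.inr rfl)
  obtain ⟨p, hp, hpq⟩ := Nat.exists_prime_and_dvd (n := 2 ^ (2 * m + 1) - 1) (by omega)
  have := Fact.mk hp
  obtain ⟨w, hw⟩ := exists_prime_orderOf_dvd_card' (G := Sz F m) p
    (S0324.result hm hF ▸ hpq.mul_left _)
  have hp2 : ¬ p ∣ 2 := fun h => by
    rw [(Nat.prime_dvd_prime_iff_eq hp Nat.prime_two).1 h] at hpq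
    omega
  have h2 : p ∣ Nat.card 𝒞[w] := hw ▸ Subgroup.orderOf_dvd_natCard _ (mem_cent1_iff.2 rfl)
  have h3 : ¬ p ∣ Nat.card 𝒞[x] * Nat.card 𝒞[y] := fun h => hp2 (by
    obtain ⟨d, hd⟩ : ∃ d, 8 * c ^ 2 = d + 1 := ⟨8 * c ^ 2 - 1, by omega⟩
    obtain ⟨f, hf⟩ : ∃ f, 8 * c ^ 2 = f + 4 * c := ⟨8 * c ^ 2 - 4 * c, by omega⟩
    rw [hq, hd, Nat.add_sub_cancel] at hpq
    rw [ex, ey, hq, hr, show 8 * c ^ 2 - 4 * c = f by omega,
      show (8 * c ^ 2 + 4 * c + 1) * (f + 1) = d * (d + 2) + 2 by nlinarith] at h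
    exact (Nat.dvd_add_right (hpq.mul_right _)).1 h)
  refine five_le_of P (fun h => ?_) hx hy (ne_one_of_prime hp hw) ?_ ?_ ?_ (by omega)
    (fun h => h3 (h ▸ h2.mul_right _)) fun h => h3 (h ▸ h2.mul_left _)
  · obtain ⟨h4, -, -, h5⟩ := S0330.result hm hF P
    rw [center_eq_top_iff.2 h, card_top, h4, hq] at h5
    nlinarith
  · rw [ex, Nat.odd_iff]; omega
  · rw [ey, Nat.odd_iff]; omega
  · rw [← Nat.not_even_iff_odd, even_iff_two_dvd]
    intro h
    obtain ⟨g, hg⟩ := RkSz.exists_order Nat.prime_two h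
      (hw ▸ ((Nat.Prime.coprime_iff_not_dvd hp).2 hp2).symm)
    rw [hw] at hg
    obtain ⟨U, ⟨h4, h5⟩, -⟩ := S2238.result hm hF g (fun h => by
      rw [h, orderOf_one] at hg; omega)
    have h6 := hg ▸ Subgroup.orderOf_dvd_natCard U h5
    rcases h4 with ⟨Q, rfl⟩ | ⟨-, h4⟩
    · obtain ⟨n, hn⟩ := Q.isPGroup'.exists_card_eq
      exact hp2 (hp.dvd_of_dvd_pow (hn ▸ (Dvd.intro_left 2 rfl).trans h6))
    · have h7 := (Dvd.intro p rfl).trans h6
      rcases h4 with h4 | h4 | h4 <;> rw [h4] at h7 <;> omega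

/-- Proof: `|G| = 20160` (`S3240.card_L34`), element orders divide 3, 4, 5 or 7 (`No6.orderOf_L34`, check the
namespace).  Take `x, y, w` of orders 3, 5, 7 (Cauchy).  If a prime `s ≠ r` divides `|C(x_r)|` there is an
element of order `r s`, impossible; `r ∣ |C(x_r)|`; so the three centralizer orders are odd and pairwise
different.  Sylow 2-subgroup non-abelian: the images of the unitriangular matrices `!![1,1,0;0,1,0;0,0,1]`,
`!![1,0,0;0,1,1;0,0,1]` generate a non-abelian 2-group; or: if `P` (order 64) is abelian then, since every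
element commuting with an involution is a 2-element, ... simplest is: an abelian Sylow makes all
2-subgroups abelian (`IsPGroup.exists_le_sylow`, conjugacy), the image of the upper unitriangular group
`{!![1,a,c;0,1,b;0,0,1]}` has exponent dividing 4 (char 2) and is non-abelian mod scalars. -/
theorem five_le_L34 {F : Type*} [Field F] [Fintype F] (hF : Fintype.card F = 4) :
    5 ≤ (IX (Matrix.ProjectiveSpecialLinearGroup (Fin 3) F)).ncard := by
  classical
  have h2 : (2 : F) = 0 := by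
    have h1 : ((2 : F)) ^ 2 = 0 := by
      have := FiniteField.cast_card_eq_zero F
      rw [hF] at this
      rw [← this]; norm_num
    exact pow_eq_zero_iff two_ne_zero |>.1 h1
  have hG := S3240.card_L34 hF
  have h1 : ∀ r : ℕ, r.Prime → r ∣ 105 → ∃ x : Matrix.ProjectiveSpecialLinearGroup (Fin 3) F,
      x ≠ 1 ∧ r ∣ Nat.card 𝒞[x] ∧ ∀ s : ℕ, s.Prime → s ∣ Nat.card 𝒞[x] → s = r := fun r hr hd => by
    have := Fact.mk hr
    obtain ⟨x, hx⟩ := exists_prime_orderOf_dvd_card'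
      (G := Matrix.ProjectiveSpecialLinearGroup (Fin 3) F) r (hG ▸ hd.trans (by norm_num))
    refine ⟨x, ne_one_of_prime hr hx, hx ▸ Subgroup.orderOf_dvd_natCard _ (mem_cent1_iff.2 rfl),
      fun s hs h => ?_⟩
    by_contra h3
    obtain ⟨g, hg⟩ := RkSz.exists_order hs h (hx ▸ (Nat.coprime_primes hs hr).2 h3)
    have h4 : ∀ q n : ℕ, q.Prime → ¬ orderOf g ∣ q ^ n := fun q n hq h5 => by
      rw [hg, hx] at h5
      exact h3 (((Nat.prime_dvd_prime_iff_eq hs hq).1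
        (hs.dvd_of_dvd_pow ((Dvd.intro _ rfl).trans h5))).trans
          ((Nat.prime_dvd_prime_iff_eq hr hq).1
            (hr.dvd_of_dvd_pow ((Dvd.intro_left _ rfl).trans h5))).symm)
    rcases No6.orderOf_L34 hF g with h5 | h5 | h5 | h5
    · exact h4 3 1 (by norm_num) h5
    · exact h4 2 2 (by norm_num) h5
    · exact h4 5 1 (by norm_num) h5
    · exact h4 7 1 (by norm_num) h5
  obtain ⟨x, hx, ex, fx⟩ := h1 3 (by norm_num) (by norm_num)
  obtain ⟨y, hy, ey, fy⟩ := h1 5 (by norm_num) (by norm_num)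
  obtain ⟨w, hw, ew, fw⟩ := h1 7 (by norm_num) (by norm_num)
  have h3 : ∀ {n r : ℕ}, (∀ s : ℕ, s.Prime → s ∣ n → s = r) → 2 ≠ r → Odd n := fun h hr =>
    Nat.not_even_iff_odd.1 fun h' => hr (h 2 Nat.prime_two (even_iff_two_dvd.1 h'))
  let A : Matrix.SpecialLinearGroup (Fin 3) F :=
    ⟨!![1, 1, 0; 0, 1, 0; 0, 0, 1], by simp [Matrix.det_fin_three]⟩
  let B : Matrix.SpecialLinearGroup (Fin 3) F :=
    ⟨!![1, 0, 0; 0, 1, 1; 0, 0, 1], by simp [Matrix.det_fin_three]⟩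
  have h11 : (1 : F) + 1 = 0 := by rw [one_add_one_eq_two, h2]
  have hA : A * A = 1 := Subtype.ext (show A.1 * A.1 = 1 by
    simp [A, h11, Matrix.one_fin_three])
  have hB : B * B = 1 := Subtype.ext (show B.1 * B.1 = 1 by
    simp [B, h11, Matrix.one_fin_three])
  have hAB : (A * B) ^ 4 = 1 := Subtype.ext (show (A.1 * B.1) ^ 4 = 1 by
    simp [A, B, h11, Matrix.one_fin_three, pow_succ])
  obtain ⟨P⟩ := (inferInstance : Nonempty (Sylow 2 (Matrix.ProjectiveSpecialLinearGroup (Fin 3) F)))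
  refine five_le_of P (RkSz.not_comm_of_dihedral (a := QuotientGroup.mk A) (b := QuotientGroup.mk B)
    (congrArg QuotientGroup.mk hA) (congrArg QuotientGroup.mk hB) (congrArg QuotientGroup.mk hAB)
    (fun h => ?_) P) hx hy hw (h3 fx (by norm_num)) (h3 fy (by norm_num)) (h3 fw (by norm_num))
    (fun h => absurd (fy 3 (by norm_num) (h ▸ ex)) (by norm_num))
    (fun h => absurd (fw 3 (by norm_num) (h ▸ ex)) (by norm_num))
    (fun h => absurd (fw 5 (by norm_num) (h ▸ ey)) (by norm_num))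
  obtain ⟨r, -, hr⟩ := Matrix.SpecialLinearGroup.mem_center_iff.1
    (QuotientGroup.eq.1 (h : (QuotientGroup.mk (A * B) : _ ⧸ center _) = QuotientGroup.mk (B * A)))
  have h4 : A.1 * B.1 * Matrix.scalar (Fin 3) r = B.1 * A.1 := by
    rw [hr]
    exact congrArg Subtype.val (mul_inv_cancel_left (A * B) (B * A))
  have h5 := congrFun (congrFun h4 0) 0
  have h6 := congrFun (congrFun h4 0) 2
  simp [A, B] at h5 h6
  exact one_ne_zero (h5.symm.trans h6)

end Cfsg.Agent.Ito4
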